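import Cfsg.Agent.Lib.Spor.HSType.Cert.CocNorm.Part0

/-!
A quotient of conjugates in the nonsplit extension: the assembled checks.
-/

set_option autoImplicit false

namespace CfsgLib.Spor.HSType.Cert.CocNorm

open CfsgLib.Spor.TC

theorem steps_ok : cert.SStepsOK 0 798 :=
  steps0

set_option maxRecDepth 100000 in
theorem trace : cert.sTraceOK 798 target 0x6000080000a000ae000b0000ff00100000e1000e0000df000dd000dc000db000d90036c00055000530005400056003970039a000d000370005c20026700620006370063c0063000405000430003d0004c000020000300003 = true := by decide +kernel

end CfsgLib.Spor.HSType.Cert.CocNorm
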